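import Mathlib.AlgebraicGeometry.Morphisms.SchemeTheoreticallyDominant
import Mathlib.AlgebraicGeometry.Morphisms.Separated
import Mathlib.AlgebraicGeometry.IdealSheaf.Subscheme

/-!
# Scheme-theoretic images and separated targets
-/

universe u

open CategoryTheory CategoryTheory.Limits AlgebraicGeometry TopologicalSpace Opposite

noncomputable section

namespace Groth.Agent.ExistEasy.ChowNR

set_option backward.isDefEq.respectTransparency false in
set_option backward.isDefEq.respectTransparency.types false in
theorem toImage_app_injective' {X Y : Scheme.{u}} (f : X ⟶ Y) [QuasiCompact f] (O : f.image.Opens) :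
    Function.Injective (f.toImage.app O) := by
  refine (injective_iff_map_eq_zero _).2 fun s hs => ?_
  refine TopCat.Presheaf.section_ext f.image.sheaf O s 0 fun x hx => ?_
  show f.image.presheaf.germ O x hx s = f.image.presheaf.germ O x hx 0
  apply f.stalkFunctor_toImage_injective x
  erw [TopCat.Presheaf.stalkFunctor_map_germ_apply, TopCat.Presheaf.stalkFunctor_map_germ_apply, map_zero]
  congr 1

theorem isSTDom_toImage {X Y : Scheme.{u}} (f : X ⟶ Y) [QuasiCompact f] :
    IsSchemeTheoreticallyDominant f.toImage := by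
  constructor
  refine Scheme.IdealSheafData.ext (funext fun V => ?_)
  rw [Scheme.Hom.ker_apply, Scheme.IdealSheafData.ideal_bot, Pi.bot_apply,
    ← RingHom.injective_iff_ker_eq_bot]
  exact toImage_app_injective' f V.1

theorem isSTDom_restrict {X Y : Scheme.{u}} (f : X ⟶ Y) [QuasiCompact f]
    [IsSchemeTheoreticallyDominant f] (O : Y.Opens) : IsSchemeTheoreticallyDominant (f ∣_ O) := by
  exact IsSchemeTheoreticallyDominant.of_isPullback (isPullback_morphismRestrict f O).flip

/-- Two maps to a separated scheme agreeing after a scheme-theoretically dominant map are equal. -/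
theorem ext_of_isSTDom {W X Y Z : Scheme.{u}} {f g : X ⟶ Y} (s : Y ⟶ Z) [IsSeparated s]
    (h : f ≫ s = g ≫ s) (ι : W ⟶ X) [IsSchemeTheoreticallyDominant ι] (hU : ι ≫ f = ι ≫ g) :
    f = g := by
  let X' : Over Z := Over.mk (f ≫ s)
  let Y' : Over Z := Over.mk s
  let U' : Over Z := Over.mk (ι ≫ f ≫ s)
  let f' : X' ⟶ Y' := Over.homMk f
  let g' : X' ⟶ Y' := Over.homMk g
  let ι' : U' ⟶ X' := Over.homMk ι
  haveI : IsSeparated Y'.hom := ‹_›
  have hfac : (equalizer.lift ι' (by ext1; exact hU) : U' ⟶ equalizer f' g').left ≫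
      (equalizer.ι f' g').left = ι := by
    rw [← Over.comp_left, equalizer.lift_ι]
    rfl
  haveI : IsIso (equalizer.ι f' g').left := IsClosedImmersion.isIso_iff_ker_eq_bot.2 (le_bot_iff.1 (by
    refine le_trans (Scheme.Hom.le_ker_comp
      (equalizer.lift ι' (by ext1; exact hU) : U' ⟶ equalizer f' g').left _) (le_of_eq ?_)
    erw [hfac]
    exact ι.ker_eq_bot))
  rw [← cancel_epi (equalizer.ι f' g').left]
  exact congr($(equalizer.condition f' g').left)

end Groth.Agent.ExistEasy.ChowNR
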