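import Groth.Agent.ExistEasy.ChowNR.Data
import Groth.Agent.PnCoh.Sections
import Mathlib.AlgebraicGeometry.ZariskisMainTheorem

/-!
# The modification is projective and birational
-/

universe u

open CategoryTheory CategoryTheory.Limits AlgebraicGeometry TopologicalSpace Opposite MvPolynomial

noncomputable section

namespace Groth.Agent.ExistEasy.ChowNR.Data

open Groth.Agent Groth.Agent.PnCoh Groth.Agent.PnCoh.Chow

set_option backward.isDefEq.respectTransparency false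

variable {A : Type u} [CommRing A] {X : Scheme.{u}} {f : X ⟶ Spec (CommRingCat.of A)} (D : Data f)

/-- The generators on a small open of `W₀`. -/
theorem toW_res (i : Fin D.m) (a : Γ(X, D.U i)) (V : D.W₀.Opens) (e : V ≤ D.j ⁻¹ᵁ D.U i) :
    D.W₀.presheaf.map (homOfLE (le_top : V ≤ ⊤)).op (D.toW i a) = D.j.appLE (D.U i) V e a := by
  rw [toW, ← CommRingCat.comp_apply, Scheme.Hom.appLE_map]

theorem le_preimage_U (i : Fin D.m) (V : D.W₀.Opens) : V ≤ D.j ⁻¹ᵁ D.U i :=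
  le_top.trans (D.hle i)

theorem π_mem_closure [IsSeparated f] (x : D.X') : D.π x ∈ closure (Set.range D.j) := by
  haveI : IsDominant D.γ := inferInstance
  have h := image_closure_subset_closure_image D.π.continuous (s := Set.range D.γ)
    ⟨x, (denseRange_iff_closure_range.1 D.γ.denseRange).symm ▸ trivial, rfl⟩
  refine closure_mono ?_ h
  rintro _ ⟨_, ⟨w, rfl⟩, rfl⟩
  exact ⟨w, by rw [← D.γ_π]; rfl⟩

theorem iSup_O : ⨆ J : D.κ, D.O J = ⊤ := by
  rw [show (⨆ J : D.κ, D.O J) =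
    D.p ⁻¹ᵁ ⨆ J : D.κ, Proj.basicOpen (CohB1.polyGrading D.N A) (D.T J) from
      (Scheme.Hom.preimage_iSup D.p _).symm]
  refine (congrArg (D.p ⁻¹ᵁ ·) (top_le_iff.1 ?_)).trans (Scheme.Hom.preimage_top D.p)
  refine le_trans (iSup_mOpen_single (ι := Fin (D.N + 1)) (R := A)).ge (iSup_le fun a => ?_)
  refine le_trans (le_of_eq ?_) (le_iSup _ (D.e.symm a))
  rw [T, Equiv.apply_symm_apply]
  rfl

/-- Every point lies in a chart with a zero index. -/
theorem exists_good [IsSeparated f] (x : D.X') : ∃ (i : Fin D.m) (J : D.κ), J i = 0 ∧ x ∈ D.O J := by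
  obtain ⟨J', hJ'⟩ := Opens.mem_iSup.1 (D.iSup_O.ge (trivial : x ∈ (⊤ : D.X'.Opens)))
  obtain ⟨i, hi⟩ := Set.mem_iUnion.1 (D.hcov (D.π_mem_closure x))
  let J := Function.update J' i 0
  refine ⟨i, J, Function.update_self i 0 J', ?_⟩
  let W : D.X'.Opens := D.O J' ⊓ D.π ⁻¹ᵁ D.U i
  have hxW : x ∈ W := ⟨hJ', hi⟩
  let rW := D.X'.presheaf.map (homOfLE (inf_le_left : W ≤ D.O J')).op (D.r J' J)
  let sW := D.π.appLE (D.U i) W inf_le_right (D.s' i (J' i))
  have key : rW * sW = 1 := by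
    refine D.app_γ_injective W ?_
    let V := D.γ ⁻¹ᵁ W
    have e : V ≤ D.γ ⁻¹ᵁ D.O J' := (Opens.map D.γ.base).monotone inf_le_left
    have h1 : D.γ.app W rW = D.γ.appLE (D.O J') V e (D.r J' J) := by
      rw [Scheme.Hom.app_eq_appLE, ← CommRingCat.comp_apply, Scheme.Hom.map_appLE]
    have h2 : D.γ.app W sW =
        D.W₀.presheaf.map (homOfLE (le_top : V ≤ ⊤)).op (D.toW i (D.s' i (J' i))) := by
      rw [Scheme.Hom.app_eq_appLE, ← CommRingCat.comp_apply, Scheme.Hom.appLE_comp_appLE,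
        appLE_congr_hom D.γ_π, D.toW_res i _ V (D.le_preimage_U i V)]
    rw [map_mul, map_one, h1, h2]
    refine (D.isUnit_v J' V e).mul_left_injective ?_
    beta_reduce
    rw [one_mul, mul_right_comm, D.γ_r J' J V e, mul_comm, ← map_mul,
      ← D.v_update J i (Function.update_self i 0 J') (J' i)]
    refine congrArg _ (congrArg D.v ?_)
    simp [J]
  have h : x ∈ D.X'.basicOpen rW := by
    rw [D.X'.basicOpen_of_isUnit (IsUnit.of_mul_eq_one _ key)]
    exact hxW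
  rw [Scheme.basicOpen_res, D.basicOpen_r] at h
  exact h.2.2

section Chart

variable (i : Fin D.m) (J : D.κ)

/-- Evaluation of polynomials in the generators by the ratios. -/
def evalR : MvPolynomial (Fin (D.k i)) A →+* Γ(D.X', D.O J) :=
  eval₂Hom (aHom (D.π ≫ f) (D.O J)) fun a => D.r J (Function.update J i a.succ)

variable {i J}

theorem γ_evalR (hJ : J i = 0) :
    (D.γ.app (D.O J)).hom.comp (D.evalR i J) =
      (D.j.appLE (D.U i) (D.γ ⁻¹ᵁ D.O J) (D.le_preimage_U i _)).hom.comp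
        (eval₂Hom (aHom f (D.U i)) (D.s i)) := by
  refine MvPolynomial.ringHom_ext (fun a => ?_) fun a => ?_
  · rw [RingHom.comp_apply, RingHom.comp_apply, evalR, eval₂Hom_C, eval₂Hom_C,
      Scheme.Hom.app_eq_appLE]
    refine (congrArg (fun φ : A →+* _ => φ a) (aHom_comp (D.π ≫ f) D.γ (D.O J) _ le_rfl)).trans ?_
    refine Eq.trans ?_ (congrArg (fun φ : A →+* _ => φ a)
      (aHom_comp f D.j (D.U i) _ (D.le_preimage_U i _))).symm
    rw [← Category.assoc, D.γ_π]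
  · rw [RingHom.comp_apply, RingHom.comp_apply, evalR, eval₂Hom_X', eval₂Hom_X',
      Scheme.Hom.app_eq_appLE]
    refine (D.isUnit_v J (D.γ ⁻¹ᵁ D.O J) le_rfl).mul_left_injective ?_
    beta_reduce
    rw [D.γ_r, D.v_update J i hJ, map_mul, D.toW_res i _ _ (D.le_preimage_U i _), D.s'_succ]

/-- The coordinate ring of `U i` acts on the chart. -/
def θ [IsSeparated f] (hJ : J i = 0) : Γ(X, D.U i) →+* Γ(D.X', D.O J) :=
  (eval₂Hom (aHom f (D.U i)) (D.s i)).liftOfSurjective (D.hgen i) ⟨D.evalR i J, fun q hq => by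
    rw [RingHom.mem_ker] at hq ⊢
    refine D.app_γ_injective (D.O J) ?_
    rw [map_zero]
    refine (congrArg (fun φ : _ →+* _ => φ q) (D.γ_evalR hJ)).trans ?_
    rw [RingHom.comp_apply, hq, map_zero]⟩

theorem γ_θ [IsSeparated f] (hJ : J i = 0) :
    CommRingCat.ofHom (D.θ hJ) ≫ D.γ.app (D.O J) =
      D.j.appLE (D.U i) (D.γ ⁻¹ᵁ D.O J) (D.le_preimage_U i _) := by
  refine CommRingCat.hom_ext (RingHom.ext fun z => ?_)
  obtain ⟨q, rfl⟩ := D.hgen i z
  show D.γ.app (D.O J) (D.θ hJ _) = _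
  rw [θ, RingHom.liftOfSurjective_comp_apply]
  exact congrArg (fun φ : _ →+* _ => φ q) (D.γ_evalR hJ)

/-- The chart maps into `U i`. -/
theorem O_le [IsSeparated f] (hJ : J i = 0) : D.O J ≤ D.π ⁻¹ᵁ D.U i := by
  haveI : X.IsSeparated := ⟨by
    rw [← terminal.comp_from f]
    exact MorphismProperty.comp_mem @IsSeparated _ _ inferInstance inferInstance⟩
  let O := D.O J
  let q : O.toScheme ⟶ X := O.toSpecΓ ≫ Spec.map (CommRingCat.ofHom (D.θ hJ)) ≫ (D.hU i).fromSpec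
  have hq : q = O.ι ≫ D.π := by
    haveI := isSTDom_restrict D.γ O
    refine ext_of_isSTDom (terminal.from X) (Subsingleton.elim _ _) (D.γ ∣_ O) ?_
    rw [morphismRestrict_ι_assoc, D.γ_π,
      eq_toSpecΓ_fromSpec (D.hU i) D.j (D.γ ⁻¹ᵁ O) (D.le_preimage_U i _), ← D.γ_θ hJ, Spec.map_comp,
      Category.assoc, Scheme.Hom.app_eq_appLE, Scheme.Opens.toSpecΓ_SpecMap_appLE_assoc,
      Scheme.Hom.resLE_eq_morphismRestrict]
    try rfl
  intro x hx
  have hr : q ⟨x, hx⟩ ∈ Set.range (D.hU i).fromSpec := ⟨_, rfl⟩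
  rw [(D.hU i).range_fromSpec, hq, Scheme.Hom.comp_apply] at hr
  exact hr

theorem π_s [IsSeparated f] (hJ : J i = 0) (a : Fin (D.k i)) :
    D.π.appLE (D.U i) (D.O J) (D.O_le hJ) (D.s i a) = D.r J (Function.update J i a.succ) := by
  refine D.app_γ_injective (D.O J) ?_
  rw [Scheme.Hom.app_eq_appLE, ← CommRingCat.comp_apply, Scheme.Hom.appLE_comp_appLE,
    appLE_congr_hom D.γ_π]
  have := congrArg (fun φ : _ →+* _ => φ (MvPolynomial.X a)) (D.γ_evalR hJ)
  simp only [RingHom.comp_apply, evalR, eval₂Hom_X'] at this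
  rw [Scheme.Hom.app_eq_appLE] at this
  exact this.symm

end Chart

theorem mono_p [IsSeparated f] : Mono D.p := ⟨fun {T} a b hab => by
  haveI : Mono D.ι := inferInstance
  rw [← cancel_mono D.ι]
  refine pullback.hom_ext ?_ (by rw [Category.assoc, Category.assoc]; exact hab)
  rw [Category.assoc, Category.assoc]
  show a ≫ D.π = b ≫ D.π
  choose i J hJ hx using fun t : T => D.exists_good (a t)
  let V : T → T.Opens := fun t => (a ≫ D.p) ⁻¹ᵁ Proj.basicOpen (CohB1.polyGrading D.N A) (D.T (J t))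
  refine Scheme.Cover.hom_ext (T.openCoverOfIsOpenCover V (top_le_iff.1 fun t _ =>
    Opens.mem_iSup.2 ⟨t, hx t⟩)) _ _ fun t => ?_
  show (V t).ι ≫ a ≫ D.π = (V t).ι ≫ b ≫ D.π
  have ha : V t ≤ a ⁻¹ᵁ D.O (J t) := le_rfl
  have hb : V t ≤ b ⁻¹ᵁ D.O (J t) :=
    le_of_eq (congrArg (fun φ : T ⟶ _ => φ ⁻¹ᵁ Proj.basicOpen (CohB1.polyGrading D.N A) (D.T (J t))) hab)
  have ha' : V t ≤ (a ≫ D.π) ⁻¹ᵁ D.U (i t) := ha.trans ((Opens.map a.base).monotone (D.O_le (hJ t)))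
  have hb' : V t ≤ (b ≫ D.π) ⁻¹ᵁ D.U (i t) := hb.trans ((Opens.map b.base).monotone (D.O_le (hJ t)))
  rw [eq_toSpecΓ_fromSpec (D.hU _) (a ≫ D.π) (V t) ha',
    eq_toSpecΓ_fromSpec (D.hU _) (b ≫ D.π) (V t) hb']
  suffices (a ≫ D.π).appLE (D.U (i t)) (V t) ha' = (b ≫ D.π).appLE (D.U (i t)) (V t) hb' by rw [this]
  refine CommRingCat.hom_ext ((RingHom.cancel_right (D.hgen (i t))).1 ?_)
  refine MvPolynomial.ringHom_ext (fun c => ?_) fun c => ?_
  · rw [RingHom.comp_apply, RingHom.comp_apply, eval₂Hom_C]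
    refine (congrArg (fun φ : A →+* _ => φ c) (aHom_comp f (a ≫ D.π) _ _ ha')).trans
      (Eq.trans ?_ (congrArg (fun φ : A →+* _ => φ c) (aHom_comp f (b ≫ D.π) _ _ hb')).symm)
    rw [Category.assoc, Category.assoc, D.π_f, reassoc_of% hab]
  · rw [RingHom.comp_apply, RingHom.comp_apply, eval₂Hom_X', ← Scheme.Hom.appLE_comp_appLE a D.π
      _ (D.O (J t)) _ (D.O_le (hJ t)) ha, ← Scheme.Hom.appLE_comp_appLE b D.π
      _ (D.O (J t)) _ (D.O_le (hJ t)) hb, CommRingCat.comp_apply, CommRingCat.comp_apply, D.π_s,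
      r, Scheme.Hom.app_eq_appLE, ← CommRingCat.comp_apply, ← CommRingCat.comp_apply,
      Scheme.Hom.appLE_comp_appLE, Scheme.Hom.appLE_comp_appLE, appLE_congr_hom hab]
    all_goals exact hJ t⟩

theorem isClosedImmersion_p [IsProper f] : IsClosedImmersion D.p := by
  haveI := isProper_toSpec D.N A
  haveI : IsProper (D.p ≫ CohB1.ProjSpace.toSpec D.N A) := by
    rw [← D.π_f]
    exact MorphismProperty.comp_mem @IsProper _ _ inferInstance inferInstance
  exact (IsClosedImmersion.iff_isProper_and_mono _).2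
    ⟨IsProper.of_comp _ (CohB1.ProjSpace.toSpec D.N A), D.mono_p⟩

theorem isIso_π [IsProper f] : IsIso (D.π ∣_ D.j.opensRange) := by
  let U₀ := D.j.opensRange
  let g₁ : U₀.toScheme ⟶ D.X' := D.j.isoOpensRange.inv ≫ D.γ
  have hg₁ : g₁ ≫ D.π = U₀.ι := by rw [Category.assoc, D.γ_π, Scheme.Hom.isoOpensRange_inv_comp]
  have hr : Set.range g₁ ⊆ Set.range (D.π ⁻¹ᵁ U₀).ι := by
    rintro _ ⟨y, rfl⟩
    rw [Scheme.Opens.range_ι]
    show D.π (g₁ y) ∈ U₀
    rw [← Scheme.Hom.comp_apply, hg₁]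
    exact y.2
  let g := IsOpenImmersion.lift (D.π ⁻¹ᵁ U₀).ι g₁ hr
  have hg : g ≫ (D.π ⁻¹ᵁ U₀).ι = g₁ := IsOpenImmersion.lift_fac _ _ _
  refine ⟨g, ?_, ?_⟩
  · haveI := isSTDom_restrict D.γ (D.π ⁻¹ᵁ U₀)
    haveI : X.IsSeparated → True := fun _ => trivial
    rw [← cancel_mono (D.π ⁻¹ᵁ U₀).ι, Category.id_comp, Category.assoc, hg]
    haveI : IsSeparated D.π := inferInstance
    refine ext_of_isSTDom D.π ?_ (D.γ ∣_ (D.π ⁻¹ᵁ U₀)) ?_
    · rw [Category.assoc, hg₁, morphismRestrict_ι]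
    · have h2 : (D.γ ∣_ (D.π ⁻¹ᵁ U₀)) ≫ (D.π ∣_ U₀) ≫ D.j.isoOpensRange.inv =
          (D.γ ⁻¹ᵁ (D.π ⁻¹ᵁ U₀)).ι := by
        rw [← cancel_mono D.j, Category.assoc, Category.assoc, Scheme.Hom.isoOpensRange_inv_comp,
          morphismRestrict_ι, morphismRestrict_ι_assoc, D.γ_π]
      show _ ≫ (D.π ∣_ U₀) ≫ D.j.isoOpensRange.inv ≫ D.γ = _
      rw [reassoc_of% h2, morphismRestrict_ι]
  · rw [← cancel_mono U₀.ι, Category.assoc, morphismRestrict_ι, reassoc_of% hg, hg₁, Category.id_comp]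

end Groth.Agent.ExistEasy.ChowNR.Data
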