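import Groth.Agent.PnCoh.Chow.Basic
import Groth.Agent.PnCoh.Chow.Proper
import Groth.Agent.QCoh.Devissage
import Groth.Agent.PnCoh.Finite.HomTwist
import Groth.Agent.PnCoh.Chow.Exists
import Groth.Agent.ExistEasy.ChowNR.Basic

/-!
# Chow's lemma over an affine base, without reducedness: the construction
-/

universe u

open CategoryTheory CategoryTheory.Limits AlgebraicGeometry TopologicalSpace Opposite MvPolynomial
open HomogeneousLocalization

noncomputable section

namespace Groth.Agent.ExistEasy.ChowNR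

open Groth.Agent Groth.Agent.PnCoh.Chow

variable {A : Type u} [CommRing A] {X : Scheme.{u}}

set_option backward.isDefEq.respectTransparency false

/-- Affine opens with generators, and an affine integral open inside all of them. -/
structure Data (f : X ⟶ Spec (CommRingCat.of A)) where
  W₀ : Scheme.{u}
  j : W₀ ⟶ X
  openImm : IsOpenImmersion j
  compact : CompactSpace W₀
  m : ℕ
  U : Fin m → X.Opens
  hU : ∀ i, IsAffineOpen (U i)
  hcov : closure (Set.range j) ⊆ ⋃ i, (U i : Set X)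
  k : Fin m → ℕ
  s : ∀ i, Fin (k i) → Γ(X, U i)
  hgen : ∀ i, Function.Surjective (eval₂Hom (aHom f (U i)) (s i))
  hle : ∀ i, (⊤ : W₀.Opens) ≤ j ⁻¹ᵁ U i

namespace Data

variable {f : X ⟶ Spec (CommRingCat.of A)} (D : Data f)

instance : IsOpenImmersion D.j := D.openImm
instance : CompactSpace D.W₀ := D.compact

/-- The indices of the coordinates. -/
abbrev κ : Type := ∀ i, Fin (D.k i + 1)

/-- The dimension of the projective space. -/
def N : ℕ := Fintype.card D.κ - 1

/-- The numbering of the coordinates. -/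
def e : D.κ ≃ Fin (D.N + 1) :=
  Fintype.equivFinOfCardEq (Nat.succ_pred_eq_of_pos Fintype.card_pos).symm

/-- The generators together with `1`. -/
def s' (i : Fin D.m) (a : Fin (D.k i + 1)) : Γ(X, D.U i) := (Fin.cons 1 (D.s i) : _ → Γ(X, D.U i)) a

theorem s'_zero (i : Fin D.m) : D.s' i 0 = 1 := rfl

theorem s'_succ (i : Fin D.m) (a : Fin (D.k i)) : D.s' i a.succ = D.s i a := by
  simp [s']

/-- Pull back of functions on the opens. -/
def toW (i : Fin D.m) : Γ(X, D.U i) →+* Γ(D.W₀, ⊤) := (D.j.appLE (D.U i) ⊤ (D.hle i)).hom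

/-- The coordinates. -/
def v (J : D.κ) : Γ(D.W₀, ⊤) := ∏ i, D.toW i (D.s' i (J i))

theorem v_zero : D.v (fun _ => 0) = 1 :=
  Finset.prod_eq_one fun i _ => by rw [D.s'_zero, map_one]

theorem v_update (J : D.κ) (i : Fin D.m) (hJ : J i = 0) (a : Fin (D.k i + 1)) :
    D.v (Function.update J i a) = D.toW i (D.s' i a) * D.v J := by
  rw [v, v, ← Finset.mul_prod_erase _ _ (Finset.mem_univ i),
    ← Finset.mul_prod_erase _ _ (Finset.mem_univ i), Function.update_self, hJ, D.s'_zero, map_one,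
    one_mul]
  refine congrArg₂ _ rfl (Finset.prod_congr rfl fun l hl => ?_)
  rw [Function.update_of_ne (Finset.ne_of_mem_erase hl)]

/-- The coordinates as a ring map. -/
def c : MvPolynomial (Fin (D.N + 1)) A →+* Γ(D.W₀, ⊤) :=
  eval₂Hom (aHom (D.j ≫ f) ⊤) fun a => D.v (D.e.symm a)

theorem c_X (J : D.κ) : D.c (MvPolynomial.X (D.e J)) = D.v J := by
  rw [c, eval₂Hom_X', Equiv.symm_apply_apply]

/-- The coordinate indexed by `J`. -/
abbrev T (J : D.κ) : MvPolynomial (Fin (D.N + 1)) A := MvPolynomial.X (D.e J)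

theorem T_mem (J : D.κ) : D.T J ∈ CohB1.polyGrading D.N A 1 := ProjPt.X_mem _

theorem isUnit_c_zero : IsUnit (D.c (D.T fun _ => 0)) := by
  rw [c_X, v_zero]; exact isUnit_one

/-- The map to projective space. -/
def g₀ : D.W₀ ⟶ CohB1.ProjSpace D.N A :=
  ProjPt.pt (CohB1.polyGrading D.N A) D.c (D.T_mem fun _ => 0) one_pos D.isUnit_c_zero

theorem g₀_toSpec : D.g₀ ≫ CohB1.ProjSpace.toSpec D.N A = D.j ≫ f := by
  show ProjPt.pt (CohB1.polyGrading D.N A) D.c (D.T_mem fun _ => 0) one_pos D.isUnit_c_zero ≫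
    Proj.toSpecZero (CohB1.polyGrading D.N A) ≫ Spec.map _ = _
  rw [← Category.assoc, ProjPt.pt_toSpecZero, Category.assoc, ← Spec.map_comp,
    ProjPt.eq_toSpecΓ (D.j ≫ f)]
  congr 2
  refine CommRingCat.hom_ext (RingHom.ext fun a => ?_)
  show D.c (MvPolynomial.C a) = _
  rw [c, eval₂Hom_C]
  show ((Scheme.ΓSpecIso (CommRingCat.of A)).inv ≫ (D.j ≫ f).appLE ⊤ ⊤ le_top) a = _
  rw [show (D.j ≫ f).appLE ⊤ ⊤ le_top = (D.j ≫ f).appTop from
    ((D.j ≫ f).app_eq_appLE (U := ⊤)).symm]

/-- The graph. -/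
def graph : D.W₀ ⟶ pullback f (CohB1.ProjSpace.toSpec D.N A) :=
  pullback.lift D.j D.g₀ D.g₀_toSpec.symm

/-- The modification. -/
def X' : Scheme.{u} := D.graph.image

/-- Its embedding. -/
def ι : D.X' ⟶ pullback f (CohB1.ProjSpace.toSpec D.N A) := D.graph.imageι

instance : IsClosedImmersion D.ι := inferInstanceAs (IsClosedImmersion
  (Scheme.IdealSheafData.subschemeι _))

theorem quasiCompact_graph [IsSeparated f] : QuasiCompact D.graph := by
  haveI : QuasiSeparatedSpace X := quasiSeparatedSpace_of_quasiSeparated f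
  haveI : QuasiCompact D.j := quasiCompact_of_compactSpace D.j
  haveI := PnCoh.Chow.isProper_toSpec D.N A
  haveI : QuasiCompact (D.graph ≫ pullback.fst f (CohB1.ProjSpace.toSpec D.N A)) := by
    rw [graph, pullback.lift_fst]; infer_instance
  exact QuasiCompact.of_comp D.graph (pullback.fst f (CohB1.ProjSpace.toSpec D.N A))

/-- The lift of the graph. -/
def γ : D.W₀ ⟶ D.X' := D.graph.toImage

theorem γ_ι : D.γ ≫ D.ι = D.graph := D.graph.toImage_imageι

instance [IsSeparated f] : QuasiCompact D.γ := by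
  haveI := D.quasiCompact_graph
  exact inferInstanceAs (QuasiCompact D.graph.toImage)

instance [IsSeparated f] : IsSchemeTheoreticallyDominant D.γ := by
  haveI := D.quasiCompact_graph
  exact isSTDom_toImage D.graph

theorem app_γ_injective [IsSeparated f] (O : D.X'.Opens) : Function.Injective (D.γ.app O) :=
  D.γ.app_injective O

/-- The modification map. -/
def π : D.X' ⟶ X := D.ι ≫ pullback.fst _ _

/-- The map to projective space. -/
def p : D.X' ⟶ CohB1.ProjSpace D.N A := D.ι ≫ pullback.snd _ _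

theorem γ_π : D.γ ≫ D.π = D.j := by
  rw [π, reassoc_of% D.γ_ι, graph, pullback.lift_fst]

theorem γ_p : D.γ ≫ D.p = D.g₀ := by
  rw [p, reassoc_of% D.γ_ι, graph, pullback.lift_snd]

theorem π_f : D.π ≫ f = D.p ≫ CohB1.ProjSpace.toSpec D.N A := by
  rw [π, p, Category.assoc, Category.assoc, pullback.condition]

instance : IsProper D.π := by
  haveI := isProper_toSpec D.N A
  haveI : IsProper (pullback.fst f (CohB1.ProjSpace.toSpec D.N A)) :=
    MorphismProperty.pullback_fst _ _ inferInstance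
  exact MorphismProperty.comp_mem @IsProper _ _ (inferInstance : IsProper D.ι) this

/-- The chart of `J` on the modification. -/
abbrev O (J : D.κ) : D.X'.Opens := D.p ⁻¹ᵁ Proj.basicOpen (CohB1.polyGrading D.N A) (D.T J)

/-- The ratio of two coordinates on the modification. -/
def r (J L : D.κ) : Γ(D.X', D.O J) :=
  D.p.app (Proj.basicOpen (CohB1.polyGrading D.N A) (D.T J))
    (PnCoh.Finite.ratio (D.T_mem J) (D.T_mem L))

theorem basicOpen_r (J L : D.κ) : D.X'.basicOpen (D.r J L) = D.O J ⊓ D.O L :=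
  (Scheme.preimage_basicOpen D.p _).symm.trans
    (congrArg (D.p ⁻¹ᵁ ·) (PnCoh.Finite.basicOpen_ratio (D.T_mem J) (D.T_mem L)))

theorem ratio_eq_awayToSection (J L : D.κ) :
    PnCoh.Finite.ratio (D.T_mem J) (D.T_mem L) =
      (Proj.awayToSection (CohB1.polyGrading D.N A) (D.T J)).hom
        (Away.mk (CohB1.polyGrading D.N A) (D.T_mem J) 1 (D.T L)
          (by rw [one_smul]; exact D.T_mem L)) := by
  refine Subtype.ext (funext fun x => val_injective _ ?_)
  erw [PnCoh.Finite.ratio_val]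
  show _ = Localization.mk (D.T L) ⟨D.T J ^ 1, _⟩
  rw [Localization.mk_eq_mk_iff, Localization.r_iff_exists]
  exact ⟨1, by simp⟩

/-- The ratios on the original scheme. -/
theorem γ_r (J L : D.κ) (V : D.W₀.Opens) (e : V ≤ D.γ ⁻¹ᵁ D.O J) :
    D.γ.appLE (D.O J) V e (D.r J L) * D.W₀.presheaf.map (homOfLE (le_top : V ≤ ⊤)).op (D.v J) =
      D.W₀.presheaf.map (homOfLE (le_top : V ≤ ⊤)).op (D.v L) := by
  rw [r, D.ratio_eq_awayToSection, Scheme.Hom.app_eq_appLE, ← CommRingCat.comp_apply, Scheme.Hom.appLE_comp_appLE,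
    appLE_congr_hom D.γ_p, ← c_X, ← c_X]
  exact pt_ratio_mul (CohB1.polyGrading D.N A) D.c (D.T_mem fun _ => 0) (D.T_mem J) (D.T_mem L)
    D.isUnit_c_zero V (by
      have h := e
      rw [show D.γ ⁻¹ᵁ D.O J = (D.γ ≫ D.p) ⁻¹ᵁ Proj.basicOpen _ (D.T J) from rfl, D.γ_p] at h
      exact h)

theorem isUnit_v (J : D.κ) (V : D.W₀.Opens) (e : V ≤ D.γ ⁻¹ᵁ D.O J) :
    IsUnit (D.W₀.presheaf.map (homOfLE (le_top : V ≤ ⊤)).op (D.v J)) :=
  IsUnit.of_mul_eq_one_right _ (by
    simpa [D.v_zero] using D.γ_r J (fun _ => 0) V e)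

end Data

end Groth.Agent.ExistEasy.ChowNR
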