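import Groth.Agent.ExistEasy.ChowNR.Closed
import Groth.Agent.PnCoh.Chow.Exists
import Mathlib.Topology.Sober
import Mathlib.Topology.NoetherianSpace

/-!
# Chow's lemma for a Noetherian scheme proper over an affine base
-/

universe u

open CategoryTheory CategoryTheory.Limits AlgebraicGeometry TopologicalSpace Opposite MvPolynomial

noncomputable section

namespace Groth.Agent.ExistEasy.ChowNR

open Groth.Agent Groth.Agent.PnCoh.Chow

variable {A : Type u} [CommRing A] {X : Scheme.{u}}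

theorem exists_data (f : X ⟶ Spec (CommRingCat.of A)) [Nonempty X] [IsNoetherian X]
    [LocallyOfFiniteType f] :
    ∃ D : Data f, (Set.range D.j).Nonempty := by
  obtain ⟨x₀⟩ := (inferInstance : Nonempty X)
  let Z₀ := irreducibleComponent x₀
  have hZmem : Z₀ ∈ irreducibleComponents X := irreducibleComponent_mem_irreducibleComponents x₀
  have hZi : IsIrreducible Z₀ := hZmem.1
  let ξ := hZi.genericPoint
  have hξ : IsGenericPoint ξ Z₀ :=
    hZi.isGenericPoint_genericPoint (isClosed_of_mem_irreducibleComponents _ hZmem)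
  let S : Set (Set X) := irreducibleComponents X \ {Z₀}
  have hS : S.Finite := NoetherianSpace.finite_irreducibleComponents.sdiff
  have hcl : IsClosed (⋃₀ S) := hS.isClosed_biUnion
    (fun s hs => isClosed_of_mem_irreducibleComponents _ hs.1) |> fun h => by
      rwa [← Set.sUnion_eq_biUnion] at h
  have hξS : ξ ∉ ⋃₀ S := by
    rintro ⟨T, ⟨hT, hne⟩, hξT⟩
    have hsub : Z₀ ⊆ T := by
      rw [← hξ.def]
      exact closure_minimal (Set.singleton_subset_iff.2 hξT) (isClosed_of_mem_irreducibleComponents _ hT)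
    exact hne (Set.Subset.antisymm (hZmem.2 hT.1 hsub) hsub)
  have hx : ∀ x : X, ∃ U : X.Opens, IsAffineOpen U ∧ x ∈ U := fun x => (by obtain ⟨_, ⟨U, hU, rfl⟩, hxU, -⟩ := X.isBasis_affineOpens.exists_subset_of_mem_open (Set.mem_univ x) isOpen_univ; exact ⟨U, hU, hxU⟩)
  choose V hV hxV using hx
  obtain ⟨T, hT⟩ := (isClosed_of_mem_irreducibleComponents _ hZmem).isCompact.elim_finite_subcover
    (fun x : Z₀ => (V x.1 : Set X)) (fun x => (V x.1).2) (fun x hx => Set.mem_iUnion.2 ⟨⟨x, hx⟩, hxV x⟩)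
  let m := T.card
  let U : Fin m → X.Opens := fun i => V (T.equivFin.symm i).1.1
  have hcov : Z₀ ⊆ ⋃ i, (U i : Set X) := fun x hx => by
    obtain ⟨t, ht, hxt⟩ := Set.mem_iUnion₂.1 (hT hx)
    refine Set.mem_iUnion.2 ⟨T.equivFin ⟨t, ht⟩, ?_⟩
    show x ∈ V (T.equivFin.symm (T.equivFin ⟨t, ht⟩)).1.1
    rw [Equiv.symm_apply_apply]
    exact hxt
  have hη : ∀ i, ξ ∈ U i := fun i =>
    (hξ.mem_open_set_iff (U i).2).2 ⟨(T.equivFin.symm i).1.1, (T.equivFin.symm i).1.2, hxV _⟩
  let U₀ : X.Opens := (⨅ i, U i) ⊓ ⟨(⋃₀ S)ᶜ, hcl.isOpen_compl⟩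
  have hηU₀ : ξ ∈ U₀ := by
    refine ⟨?_, hξS⟩
    show ξ ∈ ((⨅ i, U i : X.Opens) : Set X)
    rw [Opens.coe_iInf]
    exact Set.mem_iInter.2 hη
  obtain ⟨_, ⟨(W : X.Opens), hW, rfl⟩, hηW, hWU⟩ :=
    X.isBasis_affineOpens.exists_subset_of_mem_open hηU₀ U₀.2
  choose k s hs using fun i => exists_gens f (hV (T.equivFin.symm i).1.1)
  have hWZ : (W : Set X) ⊆ Z₀ := fun w hw => by
    have h1 := (hWU hw).2
    by_contra hne
    exact h1 ⟨irreducibleComponent w, ⟨irreducibleComponent_mem_irreducibleComponents w,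
      fun h => hne ((Set.mem_singleton_iff.1 h) ▸ mem_irreducibleComponent)⟩, mem_irreducibleComponent⟩
  refine ⟨{
    W₀ := (Scheme.Opens.toScheme (X := X) W)
    j := (Scheme.Opens.ι (X := X) W)
    openImm := inferInstance
    compact := isCompact_iff_compactSpace.1 hW.isCompact
    m := m
    U := U
    hU := fun i => hV _
    hcov := by
      rw [Scheme.Opens.range_ι]
      exact (closure_minimal hWZ (isClosed_of_mem_irreducibleComponents _ hZmem)).trans hcov
    k := k
    s := s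
    hgen := hs
    hle := fun i w _ => (iInf_le U i) (hWU w.2).1 }, ?_⟩
  show (Set.range (Scheme.Opens.ι (X := X) W)).Nonempty
  rw [Scheme.Opens.range_ι]
  exact ⟨ξ, hηW⟩

/-- Chow's lemma: a closed subscheme of projective space, proper over `X` and isomorphic to it
over a nonempty open. -/
theorem exists_chow (f : X ⟶ Spec (CommRingCat.of A)) [Nonempty X] [IsNoetherian X] [IsProper f] :
    ∃ (N : ℕ) (X' : Scheme.{u}) (π : X' ⟶ X) (p : X' ⟶ CohB1.ProjSpace N A),
      IsClosedImmersion p ∧ p ≫ CohB1.ProjSpace.toSpec N A = π ≫ f ∧ IsProper π ∧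
      ∃ U : X.Opens, (U : Set X).Nonempty ∧ IsIso (π ∣_ U) := by
  obtain ⟨D, hD⟩ := exists_data f
  exact ⟨D.N, D.X', D.π, D.p, D.isClosedImmersion_p, D.π_f.symm, inferInstance,
    D.j.opensRange, hD, D.isIso_π⟩

end Groth.Agent.ExistEasy.ChowNR
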